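import Mathlib
import Cfsg.Agent.Lib.Helper74.O720.Defs

set_option autoImplicit false

namespace Cfsg.Agent.Lib.Helper74.O720

variable {G : Type*} [Group G] [Finite G]

theorem E1_core
    (hSY : ∀ K D : Subgroup G, 9 ∣ Nat.card K → D ≤ K → IsPGroup 3 D →
      ∃ P' : Sylow 3 G, D ≤ (P' : Subgroup G) ∧ (P' : Subgroup G) ≤ K)
    (hD2 : ∀ (D : Subgroup G), IsPGroup 3 D → ∀ P' : Sylow 3 G, (P' : Subgroup G) ≤ Nz D → D ≤ P')
    (hB40 : ∀ (P : Sylow 3 G) (X : Subgroup G), X ≤ (P : Subgroup G) → ∀ g : G,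
      cj g X ≤ (P : Subgroup G) → cj g X = X)
    (D : Subgroup G) (hD : Nat.card D = 3)
    (hM : Nat.card (Nz D) = 72) (g : G) (hg : g ∉ Nz D) : ¬ D ≤ cj g (Nz D) := by
  intro hle
  have hD3 : IsPGroup 3 D := IsPGroup.of_card (n := 1) (by rw [hD]; norm_num)
  have hcD3 : IsPGroup 3 (cj g D) := IsPGroup.of_card (n := 1) (by rw [card_cj, hD]; norm_num)
  have h9 : 9 ∣ Nat.card (cj g (Nz D)) := by rw [card_cj, hM]; norm_num
  obtain ⟨P', h1, h2⟩ := hSY _ D h9 hle hD3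
  have h3 : cj g D ≤ P' := hD2 _ hcD3 P' (by rw [Nz_cj]; exact h2)
  exact hg (mem_Nz_of_cj_eq (hB40 P' D h1 g h3))

theorem E2_core
    (hSY : ∀ K D : Subgroup G, 9 ∣ Nat.card K → D ≤ K → IsPGroup 3 D →
      ∃ P' : Sylow 3 G, D ≤ (P' : Subgroup G) ∧ (P' : Subgroup G) ≤ K)
    (hD2 : ∀ (D : Subgroup G), IsPGroup 3 D → ∀ P' : Sylow 3 G, (P' : Subgroup G) ≤ Nz D → D ≤ P')
    (hB40 : ∀ (P : Sylow 3 G) (X : Subgroup G), X ≤ (P : Subgroup G) → ∀ g : G,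
      cj g X ≤ (P : Subgroup G) → cj g X = X)
    (D : Subgroup G) (hD : Nat.card D = 3)
    (g : G) (hg : g ∉ Nz D) : ¬ 9 ∣ Nat.card (Ig (Nz D) g) := by
  intro h9
  have hD3 : IsPGroup 3 D := IsPGroup.of_card (n := 1) (by rw [hD]; norm_num)
  have hcD3 : IsPGroup 3 (cj g D) := IsPGroup.of_card (n := 1) (by rw [card_cj, hD]; norm_num)
  obtain ⟨P', -, h2⟩ := hSY _ ⊥ h9 bot_le IsPGroup.of_bot
  have h1 : D ≤ P' := hD2 _ hD3 P' (h2.trans inf_le_left)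
  have h3 : cj g D ≤ P' := hD2 _ hcD3 P' (by rw [Nz_cj]; exact h2.trans inf_le_right)
  exact hg (mem_Nz_of_cj_eq (hB40 P' D h1 g h3))

end Cfsg.Agent.Lib.Helper74.O720
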